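import Mathlib
import Cfsg.Agent.Lib.Helper56.TC
import Cfsg.Agent.Lib.Helper56.Fi22a.D
set_option autoImplicit false
set_option maxRecDepth 1000000

namespace Cfsg.Agent.Lib.Helper56.Fi22a

open Cfsg.Agent.Lib.Helper56.TC Cfsg.Agent.Lib.Helper56.TC.Tabs

theorem cN_0 : allRange (fun x => forceN T.chkName x) 0 243 = true := by decide +kernel
theorem cN_243 : allRange (fun x => forceN T.chkName x) 243 245 = true := by decide +kernel
theorem cN_488 : allRange (fun x => forceN T.chkName x) 488 245 = true := by decide +kernel
theorem cN_733 : allRange (fun x => forceN T.chkName x) 733 245 = true := by decide +kernel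
theorem cN_978 : allRange (fun x => forceN T.chkName x) 978 246 = true := by decide +kernel
theorem cN_1224 : allRange (fun x => forceN T.chkName x) 1224 246 = true := by decide +kernel
theorem cN_1470 : allRange (fun x => forceN T.chkName x) 1470 248 = true := by decide +kernel
theorem cN_1718 : allRange (fun x => forceN T.chkName x) 1718 250 = true := by decide +kernel
theorem cN_1968 : allRange (fun x => forceN T.chkName x) 1968 251 = true := by decide +kernel
theorem cN_2219 : allRange (fun x => forceN T.chkName x) 2219 251 = true := by decide +kernel
theorem cN_2470 : allRange (fun x => forceN T.chkName x) 2470 249 = true := by decide +kernel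
theorem cN_2719 : allRange (fun x => forceN T.chkName x) 2719 248 = true := by decide +kernel

end Cfsg.Agent.Lib.Helper56.Fi22a
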