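import Mathlib
import Cfsg.Agent.Lib.Helper56.TC
import Cfsg.Agent.Lib.Helper56.Fi22a.D
set_option autoImplicit false
set_option maxRecDepth 1000000

namespace Cfsg.Agent.Lib.Helper56.Fi22a

open Cfsg.Agent.Lib.Helper56.TC Cfsg.Agent.Lib.Helper56.TC.Tabs

theorem cN_2967 : allRange (fun x => forceN T.chkName x) 2967 250 = true := by decide +kernel
theorem cN_3217 : allRange (fun x => forceN T.chkName x) 3217 249 = true := by decide +kernel
theorem cN_3466 : allRange (fun x => forceN T.chkName x) 3466 57 = true := by decide +kernel
theorem cV_0 : allRange (fun x => forceN T.chkV x) 0 94 = true := by decide +kernel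
theorem cV_94 : allRange (fun x => forceN T.chkV x) 94 94 = true := by decide +kernel
theorem cV_188 : allRange (fun x => forceN T.chkV x) 188 94 = true := by decide +kernel
theorem cV_282 : allRange (fun x => forceN T.chkV x) 282 94 = true := by decide +kernel
theorem cV_376 : allRange (fun x => forceN T.chkV x) 376 94 = true := by decide +kernel
theorem cV_470 : allRange (fun x => forceN T.chkV x) 470 94 = true := by decide +kernel
theorem cV_564 : allRange (fun x => forceN T.chkV x) 564 94 = true := by decide +kernel
theorem cV_658 : allRange (fun x => forceN T.chkV x) 658 94 = true := by decide +kernel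
theorem cV_752 : allRange (fun x => forceN T.chkV x) 752 94 = true := by decide +kernel

end Cfsg.Agent.Lib.Helper56.Fi22a
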