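import Mathlib
import Cfsg.Agent.Lib.Helper56.TC
import Cfsg.Agent.Lib.Helper56.Fi22a.D
set_option autoImplicit false
set_option maxRecDepth 1000000

namespace Cfsg.Agent.Lib.Helper56.Fi22a

open Cfsg.Agent.Lib.Helper56.TC Cfsg.Agent.Lib.Helper56.TC.Tabs

theorem cV_846 : allRange (fun x => forceN T.chkV x) 846 94 = true := by decide +kernel
theorem cV_940 : allRange (fun x => forceN T.chkV x) 940 94 = true := by decide +kernel
theorem cV_1034 : allRange (fun x => forceN T.chkV x) 1034 94 = true := by decide +kernel
theorem cV_1128 : allRange (fun x => forceN T.chkV x) 1128 94 = true := by decide +kernel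
theorem cV_1222 : allRange (fun x => forceN T.chkV x) 1222 94 = true := by decide +kernel
theorem cV_1316 : allRange (fun x => forceN T.chkV x) 1316 94 = true := by decide +kernel
theorem cV_1410 : allRange (fun x => forceN T.chkV x) 1410 94 = true := by decide +kernel
theorem cV_1504 : allRange (fun x => forceN T.chkV x) 1504 94 = true := by decide +kernel
theorem cV_1598 : allRange (fun x => forceN T.chkV x) 1598 94 = true := by decide +kernel
theorem cV_1692 : allRange (fun x => forceN T.chkV x) 1692 94 = true := by decide +kernel
theorem cV_1786 : allRange (fun x => forceN T.chkV x) 1786 94 = true := by decide +kernel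
theorem cV_1880 : allRange (fun x => forceN T.chkV x) 1880 94 = true := by decide +kernel

end Cfsg.Agent.Lib.Helper56.Fi22a
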