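import Mathlib
import Cfsg.Agent.Lib.Helper56.TC
import Cfsg.Agent.Lib.Helper56.Fi22a.D
set_option autoImplicit false
set_option maxRecDepth 1000000

namespace Cfsg.Agent.Lib.Helper56.Fi22a

open Cfsg.Agent.Lib.Helper56.TC Cfsg.Agent.Lib.Helper56.TC.Tabs

theorem cV_1974 : allRange (fun x => forceN T.chkV x) 1974 94 = true := by decide +kernel
theorem cV_2068 : allRange (fun x => forceN T.chkV x) 2068 94 = true := by decide +kernel
theorem cV_2162 : allRange (fun x => forceN T.chkV x) 2162 94 = true := by decide +kernel
theorem cV_2256 : allRange (fun x => forceN T.chkV x) 2256 94 = true := by decide +kernel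
theorem cV_2350 : allRange (fun x => forceN T.chkV x) 2350 94 = true := by decide +kernel
theorem cV_2444 : allRange (fun x => forceN T.chkV x) 2444 94 = true := by decide +kernel
theorem cV_2538 : allRange (fun x => forceN T.chkV x) 2538 94 = true := by decide +kernel
theorem cV_2632 : allRange (fun x => forceN T.chkV x) 2632 94 = true := by decide +kernel
theorem cV_2726 : allRange (fun x => forceN T.chkV x) 2726 94 = true := by decide +kernel
theorem cV_2820 : allRange (fun x => forceN T.chkV x) 2820 94 = true := by decide +kernel
theorem cV_2914 : allRange (fun x => forceN T.chkV x) 2914 94 = true := by decide +kernel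
theorem cV_3008 : allRange (fun x => forceN T.chkV x) 3008 94 = true := by decide +kernel

end Cfsg.Agent.Lib.Helper56.Fi22a
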