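import Mathlib
import Cfsg.Agent.Lib.Helper56.TC
import Cfsg.Agent.Lib.Helper56.Fi22a.D
set_option autoImplicit false
set_option maxRecDepth 1000000

namespace Cfsg.Agent.Lib.Helper56.Fi22a

open Cfsg.Agent.Lib.Helper56.TC Cfsg.Agent.Lib.Helper56.TC.Tabs

theorem cV_3102 : allRange (fun x => forceN T.chkV x) 3102 94 = true := by decide +kernel
theorem cV_3196 : allRange (fun x => forceN T.chkV x) 3196 94 = true := by decide +kernel
theorem cV_3290 : allRange (fun x => forceN T.chkV x) 3290 94 = true := by decide +kernel
theorem cV_3384 : allRange (fun x => forceN T.chkV x) 3384 94 = true := by decide +kernel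
theorem cV_3478 : allRange (fun x => forceN T.chkV x) 3478 32 = true := by decide +kernel

end Cfsg.Agent.Lib.Helper56.Fi22a
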