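import Mathlib
import Cfsg.Agent.Lib.Helper56.TC
import Cfsg.Agent.Lib.Helper56.Fi22a.C0
import Cfsg.Agent.Lib.Helper56.Fi22a.C1
import Cfsg.Agent.Lib.Helper56.Fi22a.C2
import Cfsg.Agent.Lib.Helper56.Fi22a.C3
import Cfsg.Agent.Lib.Helper56.Fi22a.C4
set_option autoImplicit false
set_option maxRecDepth 1000000

namespace Cfsg.Agent.Lib.Helper56.Fi22a

open Cfsg.Agent.Lib.Helper56.TC Cfsg.Agent.Lib.Helper56.TC.Tabs

theorem uN_243 : Upto T.chkName 243 := upto_add (upto_zero T.chkName) rfl cN_0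
theorem uN_488 : Upto T.chkName 488 := upto_add uN_243 rfl cN_243
theorem uN_733 : Upto T.chkName 733 := upto_add uN_488 rfl cN_488
theorem uN_978 : Upto T.chkName 978 := upto_add uN_733 rfl cN_733
theorem uN_1224 : Upto T.chkName 1224 := upto_add uN_978 rfl cN_978
theorem uN_1470 : Upto T.chkName 1470 := upto_add uN_1224 rfl cN_1224
theorem uN_1718 : Upto T.chkName 1718 := upto_add uN_1470 rfl cN_1470
theorem uN_1968 : Upto T.chkName 1968 := upto_add uN_1718 rfl cN_1718
theorem uN_2219 : Upto T.chkName 2219 := upto_add uN_1968 rfl cN_1968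
theorem uN_2470 : Upto T.chkName 2470 := upto_add uN_2219 rfl cN_2219
theorem uN_2719 : Upto T.chkName 2719 := upto_add uN_2470 rfl cN_2470
theorem uN_2967 : Upto T.chkName 2967 := upto_add uN_2719 rfl cN_2719
theorem uN_3217 : Upto T.chkName 3217 := upto_add uN_2967 rfl cN_2967
theorem uN_3466 : Upto T.chkName 3466 := upto_add uN_3217 rfl cN_3217
theorem uN_3523 : Upto T.chkName 3523 := upto_add uN_3466 rfl cN_3466
theorem uV_94 : Upto T.chkV 94 := upto_add (upto_zero T.chkV) rfl cV_0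
theorem uV_188 : Upto T.chkV 188 := upto_add uV_94 rfl cV_94
theorem uV_282 : Upto T.chkV 282 := upto_add uV_188 rfl cV_188
theorem uV_376 : Upto T.chkV 376 := upto_add uV_282 rfl cV_282
theorem uV_470 : Upto T.chkV 470 := upto_add uV_376 rfl cV_376
theorem uV_564 : Upto T.chkV 564 := upto_add uV_470 rfl cV_470
theorem uV_658 : Upto T.chkV 658 := upto_add uV_564 rfl cV_564
theorem uV_752 : Upto T.chkV 752 := upto_add uV_658 rfl cV_658
theorem uV_846 : Upto T.chkV 846 := upto_add uV_752 rfl cV_752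
theorem uV_940 : Upto T.chkV 940 := upto_add uV_846 rfl cV_846
theorem uV_1034 : Upto T.chkV 1034 := upto_add uV_940 rfl cV_940
theorem uV_1128 : Upto T.chkV 1128 := upto_add uV_1034 rfl cV_1034
theorem uV_1222 : Upto T.chkV 1222 := upto_add uV_1128 rfl cV_1128
theorem uV_1316 : Upto T.chkV 1316 := upto_add uV_1222 rfl cV_1222
theorem uV_1410 : Upto T.chkV 1410 := upto_add uV_1316 rfl cV_1316
theorem uV_1504 : Upto T.chkV 1504 := upto_add uV_1410 rfl cV_1410
theorem uV_1598 : Upto T.chkV 1598 := upto_add uV_1504 rfl cV_1504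
theorem uV_1692 : Upto T.chkV 1692 := upto_add uV_1598 rfl cV_1598
theorem uV_1786 : Upto T.chkV 1786 := upto_add uV_1692 rfl cV_1692
theorem uV_1880 : Upto T.chkV 1880 := upto_add uV_1786 rfl cV_1786
theorem uV_1974 : Upto T.chkV 1974 := upto_add uV_1880 rfl cV_1880
theorem uV_2068 : Upto T.chkV 2068 := upto_add uV_1974 rfl cV_1974
theorem uV_2162 : Upto T.chkV 2162 := upto_add uV_2068 rfl cV_2068
theorem uV_2256 : Upto T.chkV 2256 := upto_add uV_2162 rfl cV_2162
theorem uV_2350 : Upto T.chkV 2350 := upto_add uV_2256 rfl cV_2256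
theorem uV_2444 : Upto T.chkV 2444 := upto_add uV_2350 rfl cV_2350
theorem uV_2538 : Upto T.chkV 2538 := upto_add uV_2444 rfl cV_2444
theorem uV_2632 : Upto T.chkV 2632 := upto_add uV_2538 rfl cV_2538
theorem uV_2726 : Upto T.chkV 2726 := upto_add uV_2632 rfl cV_2632
theorem uV_2820 : Upto T.chkV 2820 := upto_add uV_2726 rfl cV_2726
theorem uV_2914 : Upto T.chkV 2914 := upto_add uV_2820 rfl cV_2820
theorem uV_3008 : Upto T.chkV 3008 := upto_add uV_2914 rfl cV_2914
theorem uV_3102 : Upto T.chkV 3102 := upto_add uV_3008 rfl cV_3008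
theorem uV_3196 : Upto T.chkV 3196 := upto_add uV_3102 rfl cV_3102
theorem uV_3290 : Upto T.chkV 3290 := upto_add uV_3196 rfl cV_3196
theorem uV_3384 : Upto T.chkV 3384 := upto_add uV_3290 rfl cV_3290
theorem uV_3478 : Upto T.chkV 3478 := upto_add uV_3384 rfl cV_3384
theorem uV_3510 : Upto T.chkV 3510 := upto_add uV_3478 rfl cV_3478

/-- The certificate is valid. -/
theorem cert : T.Cert where
  h0 := by decide +kernel
  hrx := by decide +kernel
  hs0 := by decide +kernel
  hname := uN_3523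
  hV := uV_3510

theorem orep_0 : T.orep 0 < T.N ∧ T.ol (T.orep 0) = 0 := by decide +kernel
theorem cnt_0 : countLt (fun v => Nat.beq (T.ol v) 0) T.N = 1 := by decide +kernel
theorem orep_1 : T.orep 1 < T.N ∧ T.ol (T.orep 1) = 1 := by decide +kernel
theorem cnt_1 : countLt (fun v => Nat.beq (T.ol v) 1) T.N = 2816 := by decide +kernel
theorem orep_2 : T.orep 2 < T.N ∧ T.ol (T.orep 2) = 2 := by decide +kernel
theorem cnt_2 : countLt (fun v => Nat.beq (T.ol v) 2) T.N = 693 := by decide +kernel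

end Cfsg.Agent.Lib.Helper56.Fi22a
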